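import Mathlib

/-!
# The sign of a permutation in terms of a transversal of its cycles

* `sign_eq_prod` : `sign σ = ∏ a, (if a ∈ T then 1 else -1)` for a transversal `T` of the cycles of `σ`.
* `lift`, `sign_lift` : the permutation of `Σ i, Fin (m i) × Fin (m i)` induced by `σ` with `m (σ i) = m i`.
-/

set_option autoImplicit false

open Equiv Equiv.Perm

namespace Cfsg.Agent.H672.PR

/-- `T` is a transversal of the cycles of `σ` -/
def Trans {α : Type*} (σ : Perm α) (T : Finset α) : Prop := ∀ a, ∃! t, t ∈ T ∧ σ.SameCycle a t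

theorem sign_eq_prod {α : Type*} [Fintype α] [DecidableEq α] (σ : Perm α) (T : Finset α) (hT : Trans σ T) :
    sign σ = ∏ a, if a ∈ T then 1 else -1 := by
  classical
  have h1 : (T ∩ σ.support).card = σ.cycleFactorsFinset.card := by
    refine Finset.card_bij (fun t _ => σ.cycleOf t) ?_ ?_ ?_
    · intro t ht
      exact cycleOf_mem_cycleFactorsFinset_iff.2 (Finset.mem_inter.1 ht).2
    · intro t ht s hs h
      have h2 : σ.SameCycle t s := by
        have h3 := (Finset.mem_inter.1 hs).2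
        have h4 : s ∈ (σ.cycleOf s).support := by
          rw [mem_support_cycleOf_iff]
          exact ⟨SameCycle.refl _ _, h3⟩
        have h : σ.cycleOf t = σ.cycleOf s := h
        rw [← h, mem_support_cycleOf_iff] at h4
        exact h4.1
      exact (hT t).unique ⟨(Finset.mem_inter.1 ht).1, SameCycle.refl _ _⟩ ⟨(Finset.mem_inter.1 hs).1, h2⟩
    · intro c hc
      obtain ⟨h2, h3⟩ := mem_cycleFactorsFinset_iff.1 hc
      obtain ⟨a, ha, -⟩ := h2
      have ha' : a ∈ c.support := mem_support.2 ha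
      have hca : c = σ.cycleOf a := (cycle_is_cycleOf ha' hc)
      obtain ⟨t, ⟨ht, hat⟩, -⟩ := hT a
      refine ⟨t, Finset.mem_inter.2 ⟨ht, ?_⟩, ?_⟩
      · have h4 : a ∈ σ.support := mem_cycleFactorsFinset_support_le hc ha'
        exact (hat.mem_support_iff).1 h4
      · rw [hca]
        exact (hat.cycleOf_eq).symm
  have h2 : sign σ = (-1) ^ (σ.support.card + (T ∩ σ.support).card) := by
    rw [sign_of_cycleType, sum_cycleType, h1]
    congr 2
    rw [cycleType_def, Multiset.card_map]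
    rfl
  have h3 : (∏ a, if a ∈ T then (1 : ℤˣ) else -1) = (-1) ^ (σ.support \ T).card := by
    rw [Finset.prod_ite, Finset.prod_const_one, one_mul, Finset.prod_const]
    congr 2
    ext a
    simp only [Finset.mem_filter, Finset.mem_univ, true_and, Finset.mem_sdiff]
    constructor
    · intro ha
      refine ⟨?_, ha⟩
      by_contra h
      obtain ⟨t, ⟨ht, hat⟩, -⟩ := hT a
      rw [notMem_support] at h
      have h5 : a = t := by
        obtain ⟨k, hk⟩ := hat
        rw [zpow_apply_eq_self_of_apply_eq_self h] at hk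
        exact hk
      exact ha (h5 ▸ ht)
    · exact fun h => h.2
  rw [h2, h3]
  have h4 : (σ.support \ T).card + (T ∩ σ.support).card = σ.support.card := by
    rw [Finset.inter_comm]
    exact Finset.card_sdiff_add_card_inter _ _
  rw [← h4, add_assoc, pow_add, ← two_mul, pow_mul, neg_one_sq, one_pow, mul_one]

variable {ι : Type*} {m : ι → ℕ}

/-- the coordinates of a matrix position -/
def co (x : Σ i, Fin (m i) × Fin (m i)) : ι × ℕ × ℕ := (x.1, x.2.1, x.2.2)

theorem co_inj : Function.Injective (co (m := m)) := by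
  rintro ⟨i, r, s⟩ ⟨j, r', s'⟩ h
  simp only [co, Prod.mk.injEq] at h
  obtain ⟨rfl, h1, h2⟩ := h
  rw [Fin.ext h1, Fin.ext h2]

theorem symm_eq {σ : Perm ι} (hm : ∀ i, m (σ i) = m i) (i : ι) : m (σ.symm i) = m i := by
  conv_rhs => rw [← σ.apply_symm_apply i, hm]

/-- the induced permutation of the matrix positions -/
def lift (σ : Perm ι) (hm : ∀ i, m (σ i) = m i) : Perm (Σ i, Fin (m i) × Fin (m i)) where
  toFun x := ⟨σ x.1, Fin.cast (hm x.1).symm x.2.1, Fin.cast (hm x.1).symm x.2.2⟩
  invFun x := ⟨σ.symm x.1, Fin.cast (symm_eq hm x.1).symm x.2.1, Fin.cast (symm_eq hm x.1).symm x.2.2⟩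
  left_inv x := co_inj (by
    obtain ⟨i, r, s⟩ := x
    simp [co])
  right_inv x := co_inj (by
    obtain ⟨i, r, s⟩ := x
    simp [co])

theorem lift_apply (σ : Perm ι) (hm : ∀ i, m (σ i) = m i) (i : ι) (r s : Fin (m i)) :
    lift σ hm ⟨i, r, s⟩ = ⟨σ i, Fin.cast (hm i).symm r, Fin.cast (hm i).symm s⟩ := rfl

theorem co_lift (σ : Perm ι) (hm : ∀ i, m (σ i) = m i) (x : Σ i, Fin (m i) × Fin (m i)) :
    co (lift σ hm x) = (σ (co x).1, (co x).2) := rfl

theorem co_lift_symm (σ : Perm ι) (hm : ∀ i, m (σ i) = m i) (x : Σ i, Fin (m i) × Fin (m i)) :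
    co ((lift σ hm)⁻¹ x) = (σ⁻¹ (co x).1, (co x).2) := rfl

theorem co_zpow (σ : Perm ι) (hm : ∀ i, m (σ i) = m i) (k : ℤ) (x : Σ i, Fin (m i) × Fin (m i)) :
    co ((lift σ hm ^ k) x) = ((σ ^ k) (co x).1, (co x).2) := by
  induction k generalizing x with
  | zero => rfl
  | succ n ih => rw [zpow_add, zpow_one, mul_apply, ih, co_lift, zpow_add, zpow_one, mul_apply]
  | pred n ih => rw [zpow_sub, zpow_one, mul_apply, ih, co_lift_symm, zpow_sub, zpow_one, mul_apply]

theorem sign_lift [Fintype ι] [DecidableEq ι] (σ : Perm ι) (hm : ∀ i, m (σ i) = m i) (T : Finset ι) (hT : Trans σ T) :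
    sign (lift σ hm) = ∏ i, (if i ∈ T then 1 else -1) ^ (m i ^ 2) := by
  classical
  have h1 : Trans (lift σ hm) (Finset.univ.filter fun x => x.1 ∈ T) := by
    intro x
    obtain ⟨t, ⟨ht, k, hk⟩, hu⟩ := hT x.1
    refine ⟨(lift σ hm ^ k) x, ⟨?_, k, rfl⟩, ?_⟩
    · rw [Finset.mem_filter]
      refine ⟨Finset.mem_univ _, ?_⟩
      have h2 := congrArg Prod.fst (co_zpow σ hm k x)
      change ((lift σ hm ^ k) x).1 = (σ ^ k) x.1 at h2
      rw [h2, hk]
      exact ht
    · rintro y ⟨hy, l, rfl⟩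
      rw [Finset.mem_filter] at hy
      have h2 := congrArg Prod.fst (co_zpow σ hm l x)
      change ((lift σ hm ^ l) x).1 = (σ ^ l) x.1 at h2
      rw [h2] at hy
      have h3 := hu _ ⟨hy.2, l, rfl⟩
      apply co_inj
      rw [co_zpow, co_zpow]
      change ((σ ^ l) x.1, _) = ((σ ^ k) x.1, _)
      rw [h3, hk]
  rw [sign_eq_prod _ _ h1, Fintype.prod_sigma]
  refine Finset.prod_congr rfl fun i _ => ?_
  have h2 : ∀ y : Fin (m i) × Fin (m i), (if (⟨i, y⟩ : Σ i, Fin (m i) × Fin (m i)) ∈
      (Finset.univ.filter fun x : Σ i, Fin (m i) × Fin (m i) => x.1 ∈ T) then (1 : ℤˣ) else -1) =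
      if i ∈ T then 1 else -1 := fun y => by simp
  rw [Finset.prod_congr rfl fun y _ => h2 y, Finset.prod_const, Finset.card_univ, Fintype.card_prod,
    Fintype.card_fin, sq]

/-- every permutation has a transversal -/
theorem exists_trans {α : Type*} [Finite α] (σ : Perm α) : ∃ T : Finset α, Trans σ T := by
  classical
  have := Fintype.ofFinite α
  let q := Quotient.mk (SameCycle.setoid σ)
  have hq : ∀ a b, q a = q b ↔ σ.SameCycle a b := fun a b => Quotient.eq (r := SameCycle.setoid σ)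
  refine ⟨Finset.univ.image fun a => (q a).out, fun a => ⟨(q a).out, ⟨Finset.mem_image_of_mem _ (Finset.mem_univ _),
    ?_⟩, ?_⟩⟩
  · rw [← hq]
    exact (Quotient.out_eq _).symm
  · rintro t ⟨ht, hat⟩
    obtain ⟨b, -, rfl⟩ := Finset.mem_image.1 ht
    rw [← hq] at hat
    change q a = q (q b).out at hat
    have h2 : q (q b).out = q b := Quotient.out_eq _
    rw [h2] at hat
    rw [hat]

end Cfsg.Agent.H672.PR
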