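import Cfsg.Agent.H162.KS.Dim
import Cfsg.Agent.H672.PR.Sign

/-!
# The general parity lemma: the determinant of the corner and the Galois group

`K` a field with an embedding into `ℂ`, `Λ` a `K`-algebra, `R i : Λ → M_(n i)(ℂ)` algebra homomorphisms, `e` an idempotent
of `Λ`, `m i` the trace of `R i e`, `a` a family of `∑ (m i)²` elements of `e Λ e`.  `core`: there is `z` with
`det (∑_i w i tr (R i (a j * a l)))_(j,l) = ± z² ∏ (w i)^((m i)²)` for all weights `w`, and `τ z = sign (σ lifted) * z` for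
every automorphism `τ` of `ℂ` over `K` permuting the `R i` by `σ`.
-/

set_option autoImplicit false

open Matrix Cfsg
open scoped Kronecker

namespace Cfsg.Agent.H672.PR

open Cfsg.Agent.Characters Cfsg.Agent.H162.KS

section Core

variable {K : Type*} [Field K] [Algebra K ℂ] {Λ : Type*} [Ring Λ] [Algebra K Λ]

/-- `R'` is isomorphic to the conjugate of `R` under `τ` -/
def Conj (τ : ℂ ≃ₐ[K] ℂ) {n n' : ℕ} (R : Λ →ₐ[K] Matrix (Fin n) (Fin n) ℂ)
    (R' : Λ →ₐ[K] Matrix (Fin n') (Fin n') ℂ) : Prop :=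
  ∃ (P : Matrix (Fin n) (Fin n') ℂ) (Q : Matrix (Fin n') (Fin n) ℂ),
    P * Q = 1 ∧ Q * P = 1 ∧ ∀ x, (R x).map τ = P * R' x * Q

/-- the blocks of `e Λ e` -/
theorem exists_blocks {ι : Type*} {n : ι → ℕ} (R : ∀ i, Λ →ₐ[K] Matrix (Fin (n i)) (Fin (n i)) ℂ) {e : Λ}
    (he : e * e = e) {m : ι → ℕ} (hm : ∀ i, (R i e).trace = m i) : ∃ φ : ∀ i, Λ → Matrix (Fin (m i)) (Fin (m i)) ℂ,
      (∀ i x y, x * e = x → (φ i (x * y)) = φ i x * φ i y) ∧ (∀ i x, x * e = x → (φ i x).trace = (R i x).trace) ∧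
      ∀ (τ : ℂ ≃ₐ[K] ℂ) (i j : ι), Conj τ (R i) (R j) →
        ∃ (h : Matrix (Fin (m i)) (Fin (m j)) ℂ) (h' : Matrix (Fin (m j)) (Fin (m i)) ℂ), h * h' = 1 ∧ h' * h = 1 ∧
        ∀ x, e * x = x → x * e = x → (φ i x).map τ = h * φ j x * h' := by
  choose B C hCB hBC using fun i => exists_factor (R i e) (by rw [← map_mul, he]) (hm i)
  refine ⟨fun i x => C i * R i x * B i, fun i x y hx => ?_, fun i x hx => ?_, fun τ i j hij => ?_⟩
  · change C i * R i (x * y) * B i = C i * R i x * B i * (C i * R i y * B i)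
    calc C i * R i (x * y) * B i = C i * (R i x * R i e * R i y) * B i := by rw [← map_mul, hx, map_mul]
      _ = _ := by
        rw [← hBC]
        simp only [Matrix.mul_assoc]
  · change (C i * R i x * B i).trace = _
    rw [Matrix.mul_assoc, trace_mul_comm, Matrix.mul_assoc, hBC, ← map_mul, hx]
  · obtain ⟨P, Q, hPQ, hQP, hτ⟩ := hij
    have hmul : ∀ {a b c : ℕ} (X : Matrix (Fin a) (Fin b) ℂ) (Y : Matrix (Fin b) (Fin c) ℂ),
        (X * Y).map τ = X.map τ * Y.map τ := fun X Y => Matrix.map_mul (f := (τ : ℂ →+* ℂ))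
    have h1 : P * R j e * Q = (B i).map τ * (C i).map τ := by rw [← hτ, ← hBC, hmul]
    refine ⟨(C i).map τ * P * B j, C j * Q * (B i).map τ, ?_, ?_, fun x hx hx' => ?_⟩
    · have h2 : (C i).map τ * (B i).map τ = 1 := by
        rw [← hmul, hCB]
        exact Matrix.map_one τ (map_zero τ) (map_one τ)
      calc (C i).map τ * P * B j * (C j * Q * (B i).map τ) = (C i).map τ * (P * (B j * C j) * Q) * (B i).map τ := by
            simp only [Matrix.mul_assoc]
        _ = ((C i).map τ * (B i).map τ) * ((C i).map τ * (B i).map τ) := by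
            rw [hBC, h1]
            simp only [Matrix.mul_assoc]
        _ = 1 := by rw [h2, Matrix.mul_one]
    · calc C j * Q * (B i).map τ * ((C i).map τ * P * B j) = C j * Q * ((B i).map τ * (C i).map τ) * P * B j := by
            simp only [Matrix.mul_assoc]
        _ = C j * ((Q * P) * (B j * C j) * (Q * P)) * B j := by
            rw [← h1, ← hBC]
            simp only [Matrix.mul_assoc]
        _ = (C j * B j) * (C j * B j) := by
            rw [hQP, Matrix.one_mul, Matrix.mul_one]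
            simp only [Matrix.mul_assoc]
        _ = 1 := by rw [hCB, Matrix.mul_one]
    · change (C i * R i x * B i).map τ = _
      have h3 : R j x = B j * C j * R j x * (B j * C j) := by rw [hBC, ← map_mul, ← map_mul, hx, hx']
      calc (C i * R i x * B i).map τ = (C i).map τ * (P * R j x * Q) * (B i).map τ := by rw [hmul, hmul, hτ]
        _ = (C i).map τ * (P * (B j * C j * R j x * (B j * C j)) * Q) * (B i).map τ := by rw [← h3]
        _ = _ := by simp only [Matrix.mul_assoc]

/-- **the core** -/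
theorem core {ι : Type*} [Fintype ι] [DecidableEq ι] {n : ι → ℕ} (R : ∀ i, Λ →ₐ[K] Matrix (Fin (n i)) (Fin (n i)) ℂ)
    {e : Λ} (he : e * e = e) {m : ι → ℕ} (hm : ∀ i, (R i e).trace = m i)
    (a : (Σ i, Fin (m i) × Fin (m i)) → Λ) (ha : ∀ j, e * a j = a j) (ha' : ∀ j, a j * e = a j) :
    ∃ z : ℂ, (∀ (τ : ℂ ≃ₐ[K] ℂ) (σ : Equiv.Perm ι) (hσ : ∀ i, m (σ i) = m i), (∀ i, Conj τ (R i) (R (σ i))) →
        τ z = ((Equiv.Perm.sign (lift σ hσ) : ℤˣ) : ℤ) * z) ∧ ∃ s : ℤˣ, ∀ w : ι → ℂ,
      (Matrix.of fun j l => ∑ i, w i * (R i (a j * a l)).trace).det = (s : ℤ) * z ^ 2 * ∏ i, w i ^ (m i ^ 2) := by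
  classical
  obtain ⟨φ, hφ1, hφ2, hφ3⟩ := exists_blocks R he hm
  let P : Matrix (Σ i, Fin (m i) × Fin (m i)) (Σ i, Fin (m i) × Fin (m i)) ℂ := fun j t => φ t.1 (a j) t.2.1 t.2.2
  let σ : Equiv.Perm (Σ i, Fin (m i) × Fin (m i)) := Equiv.sigmaCongrRight fun i => Equiv.prodComm _ _
  refine ⟨P.det, fun τ π hπ hc => ?_, Equiv.Perm.sign σ, fun w => ?_⟩
  · choose h h' hh hh' hτ using fun i => hφ3 τ i (π i) (hc i)
    let c : ∀ i, Fin (m i) ≃ Fin (m (π i)) := fun i => finCongr (hπ i).symm
    have h1 : P.map τ = (P.submatrix id (lift π hπ)) *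
        blockDiagonal' (fun i => ((h i).submatrix id (c i))ᵀ ⊗ₖ ((h' i).submatrix (c i) id)) := by
      ext j ⟨i, r, s⟩
      rw [mul_apply, Fintype.sum_sigma, Finset.sum_eq_single i]
      · change τ (φ i (a j) r s) = _
        have h2 := congrFun (congrFun (hτ i (a j) (ha j) (ha' j)) r) s
        rw [Matrix.map_apply] at h2
        rw [h2, Fintype.sum_prod_type, mul_apply]
        simp only [mul_apply, Finset.sum_mul]
        rw [Finset.sum_comm, ← (c i).sum_comp]
        refine Finset.sum_congr rfl fun u _ => ?_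
        rw [← (c i).sum_comp]
        refine Finset.sum_congr rfl fun v _ => ?_
        rw [blockDiagonal'_apply_eq, kroneckerMap_apply, transpose_apply, submatrix_apply, submatrix_apply,
          submatrix_apply, lift_apply]
        change _ = φ (π i) (a j) (c i u) (c i v) * _
        simp only [id_eq]
        ring
      · intro i' _ hne
        refine Finset.sum_eq_zero fun x _ => ?_
        rw [blockDiagonal'_apply_ne _ _ _ hne, mul_zero]
      · exact fun h0 => absurd (Finset.mem_univ i) h0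
    have h2 : τ P.det = (P.map τ).det := by
      have := RingHom.map_det (τ : ℂ →+* ℂ) P
      exact this
    rw [h2, h1, det_mul, det_bd, Finset.prod_eq_one, mul_one]
    · exact det_permute' _ _
    intro i _
    rw [det_kronecker, det_transpose, ← mul_pow, ← det_mul, submatrix_mul_equiv, hh, submatrix_id_id, det_one, one_pow]
  · have h1 : (Matrix.of fun j l => ∑ i, w i * (R i (a j * a l)).trace) =
        (P * diagonal fun t => w t.1) * (P.submatrix id σ)ᵀ := by
      ext j l
      rw [of_apply, mul_apply, Fintype.sum_sigma]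
      refine Finset.sum_congr rfl fun i _ => ?_
      rw [← hφ2 i (a j * a l) (by rw [mul_assoc, ha']), hφ1 i (a j) (a l) (ha' j), trace, Finset.mul_sum,
        Fintype.sum_prod_type]
      refine Finset.sum_congr rfl fun r _ => ?_
      rw [diag_apply, mul_apply, Finset.mul_sum]
      refine Finset.sum_congr rfl fun s _ => ?_
      rw [mul_diagonal, transpose_apply, submatrix_apply]
      change _ = φ i (a j) r s * w i * φ i (a l) s r
      ring
    have h2 : (P.submatrix id σ).det = Equiv.Perm.sign σ * P.det := det_permute' σ P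
    have h3 : (∏ t : (Σ i, Fin (m i) × Fin (m i)), w t.1) = ∏ i, w i ^ (m i ^ 2) := by
      rw [Fintype.prod_sigma]
      refine Finset.prod_congr rfl fun i _ => ?_
      change ∏ _y : Fin (m i) × Fin (m i), w i = _
      rw [Finset.prod_const, Finset.card_univ, Fintype.card_prod, Fintype.card_fin, sq]
    rw [h1, det_mul, det_mul, det_diagonal, det_transpose, h2, h3]
    ring

end Core

/-! ### the group algebra -/

section Group

variable {K : Type*} [Field K] [Algebra K ℂ] {G : Type*} [Group G] [Fintype G]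

theorem conj_rep (τ : ℂ ≃ₐ[K] ℂ) {n n' : ℕ} (ρ : Representation ℂ G (Fin n → ℂ)) (ρ' : Representation ℂ G (Fin n' → ℂ))
    (h : ∀ g, ρ'.character g = τ (ρ.character g)) : Conj τ (rep K ρ) (rep K ρ') := by
  have h1 : (GaloisBasic.twist (τ : ℂ ≃+* ℂ) ρ).character = ρ'.character := by
    funext g
    rw [GaloisBasic.twist_character]
    exact (h g).symm
  obtain ⟨f⟩ := EquivOfChar.nonempty_equiv_of_character_eq ρ' (GaloisBasic.twist (τ : ℂ ≃+* ℂ) ρ) h1.symm
  have h2 : ∀ g, (LinearMap.toMatrix' (ρ g)).map τ * LinearMap.toMatrix' f.toLinearEquiv.toLinearMap =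
      LinearMap.toMatrix' f.toLinearEquiv.toLinearMap * LinearMap.toMatrix' (ρ' g) := by
    intro g
    have h3 : (GaloisBasic.twist (τ : ℂ ≃+* ℂ) ρ g) ∘ₗ f.toLinearEquiv.toLinearMap =
        f.toLinearEquiv.toLinearMap ∘ₗ ρ' g := by
      apply LinearMap.ext
      intro v
      exact (f.toIntertwiningMap.isIntertwining _ _ g v).symm
    have h4 := congrArg LinearMap.toMatrix' h3
    rw [LinearMap.toMatrix'_comp, LinearMap.toMatrix'_comp] at h4
    rw [← h4]
    congr 1
    exact (LinearMap.toMatrix'_toLin' _).symm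
  have hPQ : LinearMap.toMatrix' f.toLinearEquiv.toLinearMap * LinearMap.toMatrix' f.toLinearEquiv.symm.toLinearMap = 1 := by
    rw [← LinearMap.toMatrix'_comp, LinearEquiv.comp_symm]
    exact LinearMap.toMatrix'_id
  have hQP : LinearMap.toMatrix' f.toLinearEquiv.symm.toLinearMap * LinearMap.toMatrix' f.toLinearEquiv.toLinearMap = 1 := by
    rw [← LinearMap.toMatrix'_comp, LinearEquiv.symm_comp]
    exact LinearMap.toMatrix'_id
  refine ⟨_, _, hPQ, hQP, fun x => ?_⟩
  induction x using MonoidAlgebra.induction_linear with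
  | zero =>
    rw [map_zero, map_zero, Matrix.mul_zero, Matrix.zero_mul]
    exact Matrix.map_zero _ (map_zero τ)
  | add x y hx hy =>
    rw [map_add, map_add, Matrix.mul_add, Matrix.add_mul, ← hx, ← hy]
    exact Matrix.map_add τ (map_add τ) _ _
  | single g c =>
    rw [rep_single, rep_single, Matrix.mul_smul, Matrix.smul_mul, ← h2, Matrix.mul_assoc, hPQ, Matrix.mul_one]
    ext r s
    change τ (c • (LinearMap.toMatrix' (ρ g) r s)) = c • τ (LinearMap.toMatrix' (ρ g) r s)
    rw [Algebra.smul_def, map_mul, τ.commutes, ← Algebra.smul_def]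

/-- **the determinant formula** -/
theorem exists_det' {ι : Type*} [Fintype ι] [DecidableEq ι] (χ : ι → G → ℂ) (hχ : ∀ i, IsCharacter G (χ i))
    {e : MonoidAlgebra K G} (he : e * e = e) {m : ι → ℕ}
    (hm : ∀ i, ev (χ i) e = m i) {N : Type*} [Fintype N] [DecidableEq N]
    (hN : Fintype.card N = ∑ i, m i ^ 2) (a : N → MonoidAlgebra K G) (ha : ∀ j, e * a j = a j)
    (ha' : ∀ j, a j * e = a j) :
    ∃ z : ℂ, (∀ (τ : ℂ ≃ₐ[K] ℂ) (σ : Equiv.Perm ι) (hσ : ∀ i, m (σ i) = m i), (∀ i g, χ (σ i) g = τ (χ i g)) →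
        τ z = ((Equiv.Perm.sign (lift σ hσ) : ℤˣ) : ℤ) * z) ∧
    ∃ s : ℤˣ, ∀ w : ι → ℂ, (Matrix.of fun j l => ∑ i, w i * ev (χ i) (a j * a l)).det =
      (s : ℤ) * z ^ 2 * ∏ i, w i ^ (m i ^ 2) := by
  choose n ρ hρ using hχ
  have h0 : Fintype.card (Σ i, Fin (m i) × Fin (m i)) = Fintype.card N := by
    rw [hN, Fintype.card_sigma]
    refine Finset.sum_congr rfl fun i _ => ?_
    rw [Fintype.card_prod, Fintype.card_fin, sq]
  let ε := Fintype.equivOfCardEq h0
  obtain ⟨z, hz, s, hs⟩ := core (fun i => rep K (ρ i)) he (m := m) (fun i => by rw [trace_rep, hρ, hm])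
    (fun t => a (ε t)) (fun t => ha _) (fun t => ha' _)
  refine ⟨z, fun τ σ hσ h => hz τ σ hσ fun i => conj_rep τ _ _ fun g => ?_, s, fun w => ?_⟩
  · rw [hρ, hρ]
    exact h i g
  · rw [← hs w, ← det_submatrix_equiv_self ε]
    congr 1
    ext j l
    rw [submatrix_apply, of_apply, of_apply]
    refine Finset.sum_congr rfl fun i _ => ?_
    rw [trace_rep, hρ]

end Group

end Cfsg.Agent.H672.PR
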